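import Cfsg.Agent.KZ.ClB.Row
import Cfsg.Agent.KZ.Dat.SpD
import Cfsg.Agent.KZ.DatX.Main
import Cfsg.Agent.H933.SubPSp

/-!
# KZ, the symplectic groups (helper66)

`rowAtC` (every `m ≥ 1` with `gammaPSp m F = ⊤`), `rowAt_sp4` (`Sp₄(2 ^ e)`), `oc3_psp`, `row_psp`.
-/

set_option autoImplicit false
set_option linter.unusedSectionVars false

namespace Cfsg.Agent.KZ.ClB

open Cfsg Cfsg.Agent.DL Cfsg.Agent.DL.PP Cfsg.Agent.KZ.Lie Cfsg.Agent.KZ.Dat Cfsg.Agent.KZ.Cl Cfsg.Agent.KZ.Ch3X Matrix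
  Equiv

/-- a Weyl group which consists of all signed permutation matrices -/
def SP.ofEq {p : ℕ} [Fact p.Prime] {k : Type} [Field k] [CharP k p] {Y : Type} [Group Y] {N : Type} [Fintype N]
    [DecidableEq N] {ρ : Y →* GL N k} {F : MulAut Y} {G : Subgroup Y} [IsAlgClosed k] {D : Datum p ρ F G} {m : ℕ}
    (e : D.R ≃ Fin m) (h1 : ∀ w, ∃ π s, ∀ i j, D.Wm w i j = spm π s (e i) (e j))
    (h2 : ∀ π s, ∃ w, ∀ i j, D.Wm w i j = spm π s (e i) (e j)) : SP D m False :=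
  have key : ∀ w π s, (∀ i j, D.Wm w i j = spm π s (e i) (e j)) →
      (1 : Matrix D.R D.R ℤ).submatrix e.symm id * D.Wm w = spm π s * (1 : Matrix D.R D.R ℤ).submatrix e.symm id := by
    intro w π s h
    ext i j
    obtain ⟨i, rfl⟩ := e.surjective i
    simp [mul_apply, one_apply, h, symm_apply_eq]
  { P := (1 : Matrix D.R D.R ℤ).submatrix e.symm id
    P' := (1 : Matrix D.R D.R ℤ).submatrix id e.symm
    PP' := by rw [← submatrix_mul _ _ _ _ _ Function.bijective_id, mul_one, submatrix_one_equiv]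
    P'P := by rw [← submatrix_mul _ _ _ _ _ e.symm.bijective, mul_one, submatrix_id_id]
    fwd := fun w => (h1 w).imp fun π h => h.imp fun s h => ⟨False.elim, key w π s h⟩
    bwd := fun π s _ => (h2 π s).imp fun w h => key w π s h }

variable {F : Type} [Field F] [Fintype F] {m : ℕ}

theorem rowAtC (hB : BoxB) (hA : BoxApi) (h3 : ¬ 3 ∣ Fintype.card F) (hm : 1 ≤ m) (hg : gammaPSp m F = ⊤)
    (ho : OC3 (PSp m F)) (hS : ¬ IsMulCommutative (PSp m F)) : RowAt (PSp m F) := by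
  obtain ⟨p, hp⟩ := CharP.exists F
  have : Fact p.Prime := ⟨CharP.char_is_prime F p⟩
  obtain ⟨k, _, _, _, hk, e, he, f, hF⟩ := hasC p F
  have hp3 := ne_three he hF h3
  exact (SP.ofEq (D := datC m hk he) (Equiv.refl _)
    (fun w => (WmC_spm hk he w).imp fun π h => h.imp fun s h i j => congrFun (congrFun h i) j)
    fun π s => (exists_WmC hk he π s).imp fun w h i j => congrFun (congrFun h i) j).rowAt hB hA hm hp3 he
    (datC_Mx hk he) (sitC_of f hk he hF hg) (fun g h => (sitC_H0 f hk he hF hg).ge (pow_mem h 2)) (sitC_ker f hk he hF hg)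
    (fun A h => .inl (adm_of_admQ hp3 h)) ho hS

theorem oc3_psp (hm : 2 ≤ m) (h22 : m = 2 → 3 ≤ Fintype.card F) (hs : IsSimpleGroup (PSp m F))
    (hS : ¬ IsMulCommutative (PSp m F)) : OC3 (PSp m F) := by
  obtain ⟨p, hp⟩ := CharP.exists F
  obtain ⟨⟨e, he⟩, hp', hF⟩ := FiniteField.card F p
  have : Fact p.Prime := ⟨hp'⟩
  have h1 := S0814.result (F := F) p e he hF m hm fun h => hF ▸ h22 h
  rw [H933.SubPSp.card_out hs hS] at h1
  obtain ⟨σ, hσ⟩ := H933.SubField.exists_orderOf he hF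
  obtain ⟨x, hx⟩ := H933.SubPSp.exists_out (F := F) (m := m) (by omega) σ
  refine oc3_of_card x he (fun h => ?_) (Nat.eq_of_mul_eq_mul_right Nat.card_pos h1) (hσ ▸ hx)
  refine absurd (h.trans (Nat.mul_dvd_mul (d := 2) (b := 2) ?_ (Nat.gcd_dvd_left _ _))) (by decide)
  split_ifs
  exacts [dvd_rfl, one_dvd _]

/-! ### `Sp₄(2 ^ e)` -/

section B2

open Cfsg.Agent.KZ.DatX Cfsg.Lie

/-- the change of basis -/
def PB : Matrix (Fin 2) (Fin 2) ℤ := !![1, 1; 1, 0]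

/-- its inverse -/
def PB' : Matrix (Fin 2) (Fin 2) ℤ := !![0, 1; 1, -1]

theorem PB_simple : ∀ i : Fin 2, ∃ π s, PB * sM chevB2 2 i = spm π s * PB := by decide +kernel

theorem PB_word (L : List (Fin 2)) : ∃ π s, PB * (L.map (sM chevB2 2)).prod = spm π s * PB := by
  induction L with
  | nil => exact ⟨1, 1, by rw [spm_one, List.map_nil, List.prod_nil, mul_one, one_mul]⟩
  | cons i L ih =>
    obtain ⟨π, s, h⟩ := PB_simple i
    obtain ⟨π', s', h'⟩ := ih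
    exact ⟨_, _, by rw [List.map_cons, List.prod_cons, ← mul_assoc, h, mul_assoc, h', ← mul_assoc, spm_mul]⟩

theorem PB_all : ∀ π s, ∃ L ∈ [[], [0], [1], [0, 1], [1, 0], [0, 1, 0], [1, 0, 1], [0, 1, 0, 1]],
    PB * (List.map (sM chevB2 2) L).prod = spm π s * PB := by decide +kernel

theorem PB_gam : ∀ π s, ∃ π' s', PB' * (spm π s * PB) * GamB = GamB * (PB' * (spm π' s' * PB)) := by decide +kernel

theorem PB_ind : ∀ π s, ind 2 2 ᵥ* PB ᵥ* (GamB * (PB' * (spm π s * PB))) ∈ [![2, 2], ![-2, -2], ![2, 0], ![-2, 0]] := by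
  decide +kernel

theorem eq_of_PB {a : Matrix (Fin 2) (Fin 2) ℤ} {π : Perm (Fin 2)} {s : Fin 2 → ℤˣ} (h : PB * a = spm π s * PB) :
    a = PB' * (spm π s * PB) := by rw [← h, ← mul_assoc, (by decide +kernel : PB' * PB = 1), one_mul]

theorem gam_sq (j : ℕ) : (((2 : ℕ) : ℤ) ^ j • GamB) * (((2 : ℕ) : ℤ) ^ j • GamB) =
    ((2 : ℕ) : ℤ) ^ (j + j + 1) • (1 : Matrix (Fin 2) (Fin 2) ℤ) := by
  rw [smul_mul_smul_comm, (by decide +kernel : GamB * GamB = (2 : ℤ) • 1), smul_smul, pow_succ, pow_add]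
  rfl

theorem gam_comm (c : ℤ) {a b : Matrix (Fin 2) (Fin 2) ℤ} {π π' : Perm (Fin 2)} {s s' : Fin 2 → ℤˣ}
    (h1 : PB * a = spm π s * PB) (h2 : PB * b = spm π' s' * PB)
    (h : PB' * (spm π s * PB) * GamB = GamB * (PB' * (spm π' s' * PB))) : a * (c • GamB) = (c • GamB) * b := by
  rw [mul_smul_comm, smul_mul_assoc, eq_of_PB h1, eq_of_PB h2, h]

theorem gam_not {c : ℤ} (hc : ¬ 3 ∣ c) {a : Matrix (Fin 2) (Fin 2) ℤ} {π : Perm (Fin 2)} {s : Fin 2 → ℤˣ}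
    (h1 : PB * a = spm π s * PB) (t : ℤ) :
    ¬ ∀ i, (3 : ℤ) ∣ ((ind 2 2 ᵥ* PB) ᵥ* ((c • GamB) * a) - t • (ind 2 2 ᵥ* PB)) i := fun h => by
  have h2 := PB_ind π s
  rw [smul_mul_assoc, vecMul_smul, eq_of_PB h1] at h
  generalize ind 2 2 ᵥ* PB ᵥ* (GamB * (PB' * (spm π s * PB))) = u at h h2
  rw [(by decide +kernel : ind 2 2 ᵥ* PB = ![2, 1])] at h
  have h3 := h 0
  have h4 := h 1
  simp only [List.mem_cons, List.not_mem_nil, or_false] at h2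
  rcases h2 with rfl | rfl | rfl | rfl <;> simp at h3 h4 <;> omega

variable {k : Type} [Field k] [CharP k 2] [IsAlgClosed k] {Mx : Matrix (Fin 2) (Fin 2) ℤ} (X : XF hpB2 2 k Mx)

/-- the Weyl group of `B₂` -/
def spB2 : SP X.D 2 False where
  P := PB
  P' := PB'
  PP' := (by decide +kernel : PB * PB' = 1)
  P'P := (by decide +kernel : PB' * PB = 1)
  fwd w := by
    obtain ⟨L, -, h⟩ := X.exists_word w
    obtain ⟨π, s, h'⟩ := PB_word L
    exact ⟨π, s, False.elim, h ▸ h'⟩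
  bwd π s _ := by
    obtain ⟨L, -, h⟩ := PB_all π s
    exact ⟨_, X.Wm_word L ▸ h⟩

theorem admB2 {A : Matrix X.D.R X.D.R ℤ} (h : AdmL 2 [1, GamB] A) :
    (∃ (v : X.D.W) (s : ℤ), ¬ 3 ∣ s ∧ X.D.Wm v * A = s • (1 : Matrix X.D.R X.D.R ℤ)) ∨
      ((2 ≠ 1 ∧ 2 ≠ 4 ∧ 2 ≠ 5) ∧ (∃ s : ℤ, ¬ 3 ∣ s ∧ A * A = s • (1 : Matrix X.D.R X.D.R ℤ)) ∧
        (∀ w, ∃ w', X.D.Wm w * A = A * X.D.Wm w') ∧
        ∀ (v : X.D.W) (s : ℤ), ¬ ∀ i, (3 : ℤ) ∣
          ((ind 2 2 ᵥ* (spB2 X).P) ᵥ* (A * X.D.Wm v) - s • (ind 2 2 ᵥ* (spB2 X).P)) i) := by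
  obtain ⟨j, B, hB, rfl⟩ := h
  have h3 := not_three_pow Nat.prime_two (by decide)
  rcases List.mem_pair.1 hB with rfl | rfl
  · exact .inl (adm_of_admQ (by decide) ⟨j, rfl⟩)
  refine .inr ⟨by decide, ⟨_, h3 (j + j + 1), gam_sq j⟩, fun w => ?_, fun v t => ?_⟩
  · obtain ⟨π, s, -, h1⟩ := (spB2 X).fwd w
    obtain ⟨π', s', h2⟩ := PB_gam π s
    obtain ⟨w', h4⟩ := (spB2 X).bwd π' s' False.elim
    exact ⟨w', gam_comm _ h1 h4 h2⟩
  · obtain ⟨π, s, -, h1⟩ := (spB2 X).fwd v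
    exact gam_not (h3 j) h1 t

theorem rowAt_sp4 (hB : BoxB) (hA : BoxApi) [CharP F 2] (ho : OC3 (PSp 2 F)) (hS : ¬ IsMulCommutative (PSp 2 F)) :
    RowAt (PSp 2 F) := by
  obtain ⟨⟨e, he⟩, -, hF⟩ := FiniteField.card F 2
  obtain ⟨k, _, _, _, X, ⟨s⟩⟩ := has_PSp4 hF
  exact (spB2 X).rowAt hB hA (by decide) (by decide) he X.D_Mx s.sit (fun g h => s.H0_eq.ge (pow_mem h 2))
    (fun z hz => by rw [s.sit_π_inj (hz.trans (map_one _).symm), one_pow]) (fun A h => admB2 X h) ho hS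

end B2

/-- **The row of the symplectic groups.** -/
theorem row_psp (hB : BoxB) (hA : BoxApi) : Row PspX := row_of Tool.toolOne fun S _ _ h1 h2 _ h => by
  obtain ⟨F, _, _, m, h3, hm, h22, ⟨e⟩⟩ := h
  have h4 := not_comm_congr e h2
  have h5 := oc3_psp hm h22 e.symm.isSimpleGroup h4
  refine rowAt_congr e ?_
  obtain ⟨p, hp⟩ := CharP.exists F
  have : Fact p.Prime := ⟨CharP.char_is_prime F p⟩
  by_cases h6 : m = 2 → p ≠ 2
  · exact rowAtC hB hA h3 (by omega) (S2693.result hm h6) h5 h4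
  · obtain ⟨rfl, h7⟩ := Classical.not_imp.1 h6
    obtain rfl := not_not.1 h7
    exact rowAt_sp4 hB hA h5 h4

end Cfsg.Agent.KZ.ClB
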