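import Cfsg.Agent.KZ.Cl.Defs

/-!
# KZ, Weyl groups of signed permutations : `Blk` and `BLike` (helper66)

`SP D m ev` : after the change of basis `P` the Weyl group is the group of all signed permutation matrices of size `m`
(with an even number of signs if `ev`).  `S.Tor w₀ Q n` : `w₀ F` is `Q` on the first `n` coordinates and `-Q` on the others.
`S.blk`, `S.blike`.
-/

set_option autoImplicit false
set_option linter.unusedSectionVars false

namespace Cfsg.Agent.KZ.ClB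

open Cfsg Cfsg.Agent.DL Cfsg.Agent.DL.PP Cfsg.Agent.KZ.Lie Cfsg.Agent.KZ.Sym Cfsg.Agent.KZ.Dat Cfsg.Agent.KZ.Cl Matrix Equiv

/-! ### initial segments -/

section Seg

variable {r m : ℕ} (h : r ≤ m)

/-- the permutations of the first `r` points -/
noncomputable def ex : Perm (Fin r) →* Perm (Fin m) := Perm.viaEmbeddingHom (Fin.castLEEmb h)

theorem ex_lt (g : Perm (Fin r)) (a : Fin r) : ex h g (Fin.castLE h a) = Fin.castLE h (g a) :=
  Perm.viaEmbedding_apply g (Fin.castLEEmb h) a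

theorem ex_ge (g : Perm (Fin r)) {j : Fin m} (hj : ¬ (j : ℕ) < r) : ex h g j = j :=
  Perm.viaEmbedding_apply_of_notMem g (Fin.castLEEmb h) j fun ⟨a, ha⟩ => hj (ha ▸ a.2)

theorem seg_cases (j : Fin m) : (∃ a, j = Fin.castLE h a) ∨ ¬ (j : ℕ) < r :=
  (em _).imp_left fun hj => ⟨⟨j, hj⟩, rfl⟩

theorem ex_lt_iff (g : Perm (Fin r)) (j : Fin m) : (ex h g j : ℕ) < r ↔ (j : ℕ) < r := by
  rcases seg_cases h j with ⟨a, rfl⟩ | hj
  · rw [ex_lt]
    exact iff_of_true (g a).2 a.2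
  · rw [ex_ge h g hj]

theorem exists_res {π : Perm (Fin m)} (hπ : ∀ j : Fin m, (j : ℕ) < r → (π j : ℕ) < r) :
    ∃ g : Perm (Fin r), ∀ a, π (Fin.castLE h a) = Fin.castLE h (g a) :=
  ⟨ofBijective (fun a => ⟨π (Fin.castLE h a), hπ _ a.2⟩) (Finite.injective_iff_bijective.1 fun _ _ e =>
    Fin.castLE_injective h (π.injective (Fin.ext (Fin.mk.inj e)))), fun _ => rfl⟩

include h in
theorem lt_iff_of_lt {π : Perm (Fin m)} (hπ : ∀ j : Fin m, (j : ℕ) < r → (π j : ℕ) < r) (j : Fin m) :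
    (π j : ℕ) < r ↔ (j : ℕ) < r := by
  obtain ⟨g, hg⟩ := exists_res h hπ
  refine ⟨fun hj => ?_, hπ j⟩
  obtain ⟨a, ha⟩ := g.surjective ⟨π j, hj⟩
  have : π (Fin.castLE h a) = π j := by rw [hg, ha]; rfl
  rw [← π.injective this]
  exact a.2

theorem sum_seg {f : Fin m → ℤ} (hf : ∀ j : Fin m, ¬ (j : ℕ) < r → f j = 0) : ∑ a, f (Fin.castLE h a) = ∑ j, f j :=
  Fintype.sum_of_injective _ (Fin.castLE_injective h) _ _
    (fun j hj => hf j fun h1 => hj ⟨⟨j, h1⟩, rfl⟩) fun _ => rfl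

/-- the signs of the Sylow torus -/
def dd (m n : ℕ) : Fin m → ℤˣ := fun i => if (i : ℕ) < n then 1 else -1

theorem dd_self (m : ℕ) : spm 1 (dd m m) = 1 := by
  rw [← spm_one]
  exact congrArg _ (funext fun i => if_pos i.2)

theorem dd_eq {n : ℕ} {i j : Fin m} : dd m n i = dd m n j ↔ ((i : ℕ) < n ↔ (j : ℕ) < n) := by
  unfold dd
  split_ifs with h1 h2 h2 <;> simp [h1, h2]

theorem spm_mul_apply {κ : Type} (π : Perm (Fin m)) (s : Fin m → ℤˣ) (X : Matrix (Fin m) κ ℤ) (j : Fin m) (c : κ) :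
    (spm π s * X) (π j) c = s j * X j c := spm_mulVec π s (fun i => X i c) j

end Seg

variable {p : ℕ} [Fact p.Prime] {k : Type} [Field k] [CharP k p] {Y : Type} [Group Y] {N : Type} [Fintype N]
  [DecidableEq N] {ρ : Y →* GL N k} {F : MulAut Y} {G : Subgroup Y} [IsAlgClosed k] {D : Datum p ρ F G}

theorem rel_cx {xv : D.R → ℤ} {u : D.W} (h : xv ᵥ* D.Wm u = xv) (x : ℂˣ) : Rel D u (cx D xv x) (cx D xv x) := fun v => by
  have h1 : ∀ v, chr v (cx D xv x) = x ^ (xv ⬝ᵥ v) := fun v => (chr_coch v xv x).trans (by rw [dotProduct_comm]; rfl)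
  rw [h1, h1, dotProduct_mulVec, h]

theorem eq_one_of_three {x : ℂˣ} {i : ℕ} (h : x ^ 3 ^ i = 1) {n : ℤ} (hn : ¬ 3 ∣ n) (hx : x ^ n = 1) : x = 1 := by
  obtain ⟨j, -, hj⟩ := (Nat.dvd_prime_pow Nat.prime_three).1 (orderOf_dvd_of_pow_eq_one h)
  have h1 := orderOf_dvd_iff_zpow_eq_one.2 hx
  rw [hj] at h1
  cases j with
  | zero => exact orderOf_eq_one_iff.1 hj
  | succ j => exact absurd ((dvd_pow_self (3 : ℤ) j.succ_ne_zero).trans (by exact_mod_cast h1)) hn

theorem pow_eq_one_of_three {x : ℂˣ} {i a : ℕ} (h : x ^ 3 ^ i = 1) {n : ℤ} (hn : ¬ (3 : ℤ) ^ (a + 1) ∣ n) (hx : x ^ n = 1) :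
    x ^ 3 ^ a = 1 := by
  obtain ⟨j, -, hj⟩ := (Nat.dvd_prime_pow Nat.prime_three).1 (orderOf_dvd_of_pow_eq_one h)
  have h1 := orderOf_dvd_iff_zpow_eq_one.2 hx
  rw [hj] at h1
  refine orderOf_dvd_iff_pow_eq_one.1 (hj ▸ pow_dvd_pow 3 (not_lt.1 fun h2 => hn ?_))
  exact (pow_dvd_pow (3 : ℤ) h2).trans (by exact_mod_cast h1)

variable (D) in
/-- The Weyl group is a group of signed permutations. -/
structure SP (m : ℕ) (ev : Prop) where
  P : Matrix (Fin m) D.R ℤ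
  P' : Matrix D.R (Fin m) ℤ
  PP' : P * P' = 1
  P'P : P' * P = 1
  fwd : ∀ w, ∃ π s, (ev → ∏ a, s a = 1) ∧ P * D.Wm w = spm π s * P
  bwd : ∀ π s, (ev → ∏ a, s a = 1) → ∃ w, P * D.Wm w = spm π s * P

namespace SP

variable {m : ℕ} {ev : Prop} (S : SP D m ev)

theorem cancel_right {κ : Type} {X X' : Matrix κ (Fin m) ℤ} (h : X * S.P = X' * S.P) : X = X' := by
  rw [← Matrix.mul_one X, ← Matrix.mul_one X', ← S.PP', ← Matrix.mul_assoc, h, Matrix.mul_assoc]

theorem cancel_left {κ : Type} {X X' : Matrix D.R κ ℤ} (h : S.P * X = S.P * X') : X = X' := by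
  rw [← Matrix.one_mul X, ← Matrix.one_mul X', ← S.P'P, Matrix.mul_assoc, h, Matrix.mul_assoc]

theorem P_P' (l : Fin m → ℤ) : S.P *ᵥ (S.P' *ᵥ l) = l := by rw [mulVec_mulVec, S.PP', one_mulVec]

theorem P'_P (v : D.R → ℤ) : S.P' *ᵥ (S.P *ᵥ v) = v := by rw [mulVec_mulVec, S.P'P, one_mulVec]

theorem P_inj {v v' : D.R → ℤ} (h : S.P *ᵥ v = S.P *ᵥ v') : v = v' := by rw [← S.P'_P v, h, S.P'_P]

theorem dvd_of_vecMul {u : Fin m → ℤ} {q : ℤ} (h : ∀ i, q ∣ (u ᵥ* S.P) i) (j : Fin m) : q ∣ u j := by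
  rw [← vecMul_one u, ← S.PP', ← vecMul_vecMul]
  exact Finset.dvd_sum fun i _ => (h i).mul_right _

/-- the permutation -/
noncomputable def π0 (w : D.W) : Perm (Fin m) := (S.fwd w).choose

/-- the signs -/
noncomputable def s (w : D.W) : Fin m → ℤˣ := (S.fwd w).choose_spec.choose

theorem spec (w : D.W) : (ev → ∏ a, S.s w a = 1) ∧ S.P * D.Wm w = spm (S.π0 w) (S.s w) * S.P :=
  (S.fwd w).choose_spec.choose_spec

theorem spec_mul (a b : D.W) : S.π0 (a * b) = S.π0 a * S.π0 b ∧ S.s (a * b) = fun j => S.s a (S.π0 b j) * S.s b j := by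
  rw [← spm_inj, ← spm_mul]
  refine S.cancel_right ?_
  rw [← (S.spec _).2, D.Wm_mul, ← Matrix.mul_assoc, (S.spec a).2, Matrix.mul_assoc, (S.spec b).2, Matrix.mul_assoc]

/-- the permutation -/
noncomputable def π : D.W →* Perm (Fin m) := MonoidHom.mk' S.π0 fun a b => (S.spec_mul a b).1

theorem eq (w : D.W) : S.P * D.Wm w = spm (S.π w) (S.s w) * S.P := (S.spec w).2

theorem even (h : ev) (w : D.W) : ∏ a, S.s w a = 1 := (S.spec w).1 h

theorem s_mul (a b : D.W) (j : Fin m) : S.s (a * b) j = S.s a (S.π b j) * S.s b j := congrFun (S.spec_mul a b).2 j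

theorem π_mul (a b : D.W) (j : Fin m) : S.π (a * b) j = S.π a (S.π b j) := by rw [map_mul, Perm.mul_apply]

theorem ext {a b : D.W} (h1 : ∀ j, S.π a j = S.π b j) (h2 : ∀ j, S.s a j = S.s b j) : a = b :=
  D.Wm_injective (S.cancel_left (by rw [S.eq, S.eq, Equiv.ext h1, funext h2]))

theorem eq_iff {w : D.W} {π : Perm (Fin m)} {s : Fin m → ℤˣ} :
    S.P * D.Wm w = spm π s * S.P ↔ S.π w = π ∧ S.s w = s := by
  rw [S.eq, ← spm_inj]
  exact ⟨S.cancel_right, fun h => by rw [h]⟩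

theorem s_one (j : Fin m) : S.s 1 j = 1 :=
  congrFun (S.eq_iff.1 (by rw [D.Wm_one, spm_one, Matrix.mul_one, Matrix.one_mul])).2 j

theorem exists_w (π : Perm (Fin m)) {s : Fin m → ℤˣ} (h : ev → ∏ a, s a = 1) : ∃ w, S.π w = π ∧ S.s w = s :=
  (S.bwd π s h).imp fun _ => S.eq_iff.1

theorem P_Wm (w : D.W) (v : D.R → ℤ) : S.P *ᵥ (D.Wm w *ᵥ v) = spm (S.π w) (S.s w) *ᵥ (S.P *ᵥ v) := by
  rw [mulVec_mulVec, S.eq, mulVec_mulVec]

theorem vecMul_Wm (u : Fin m → ℤ) (w : D.W) : u ᵥ* S.P ᵥ* D.Wm w = (fun j => u (S.π w j) * S.s w j) ᵥ* S.P := by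
  rw [vecMul_vecMul, S.eq, ← vecMul_vecMul, funext (vecMul_spm _ _ u)]

theorem det_Wm (w : D.W) : (D.Wm w).det = (Perm.sign (S.π w) : ℤ) * ∏ j, (S.s w j : ℤ) := by
  have h : D.Wm w = S.P' * (spm (S.π w) (S.s w) * S.P) := by rw [← S.eq, ← Matrix.mul_assoc, S.P'P, Matrix.one_mul]
  have hc : Fintype.card D.R = Fintype.card (Fin m) := (square_of_invertible S.P S.P' S.PP' S.P'P).symm
  let e := Fintype.equivOfCardEq hc
  have h1 : (S.P.submatrix e id).det * (S.P'.submatrix id e).det = 1 := by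
    rw [← det_mul, ← submatrix_mul _ _ _ _ _ Function.bijective_id, S.PP', det_submatrix_equiv_self, det_one]
  have h2 : D.Wm w = S.P'.submatrix id e * ((spm (S.π w) (S.s w)).submatrix e e * S.P.submatrix e id) := by
    rw [← submatrix_mul _ _ _ _ _ e.bijective, ← submatrix_mul _ _ _ _ _ e.bijective, submatrix_id_id, ← h]
  rw [h2, det_mul, det_mul, det_submatrix_equiv_self, det_spm, mul_left_comm, mul_comm (S.P'.submatrix id e).det, h1, mul_one]

/-- the permutation matrices -/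
noncomputable def pw : Perm (Fin m) →* D.W :=
  MonoidHom.mk' (fun g => (S.exists_w g (s := 1) fun _ => Finset.prod_const_one).choose) fun a b => by
    have h := fun g => (S.exists_w g (s := 1) fun _ => Finset.prod_const_one).choose_spec
    refine S.ext (fun j => ?_) fun j => ?_
    · rw [S.π_mul, (h _).1, (h _).1, (h _).1, Perm.mul_apply]
    · rw [S.s_mul, (h _).2, (h _).2, (h _).2]
      exact (mul_one _).symm

theorem π_pw (g : Perm (Fin m)) : S.π (S.pw g) = g := (S.exists_w g (s := 1) fun _ => Finset.prod_const_one).choose_spec.1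

theorem s_pw (g : Perm (Fin m)) (j : Fin m) : S.s (S.pw g) j = 1 :=
  congrFun (S.exists_w g (s := 1) fun _ => Finset.prod_const_one).choose_spec.2 j

/-- the pointwise stabiliser of the first `r` basis vectors -/
def U (r : ℕ) : Subgroup D.W where
  carrier := {u | ∀ j : Fin m, (j : ℕ) < r → S.π u j = j ∧ S.s u j = 1}
  one_mem' j _ := ⟨by rw [map_one]; rfl, S.s_one j⟩
  mul_mem' {a b} ha hb j hj := by
    rw [S.π_mul, S.s_mul, (hb j hj).1, (hb j hj).2, mul_one]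
    exact ha j hj
  inv_mem' {a} ha j hj := by
    have h1 := S.π_mul a⁻¹ a j
    have h2 := S.s_mul a⁻¹ a j
    rw [inv_mul_cancel, (ha j hj).1] at h1 h2
    rw [map_one] at h1
    rw [S.s_one, (ha j hj).2, mul_one] at h2
    exact ⟨h1.symm, h2.symm⟩

theorem mem_U {r : ℕ} {u : D.W} : u ∈ S.U r ↔ ∀ j : Fin m, (j : ℕ) < r → S.π u j = j ∧ S.s u j = 1 := Iff.rfl

/-- the coordinates of a label -/
noncomputable def co (c : Lbl D) : Fin m → ℂˣ := fun i => chr (S.P' *ᵥ Pi.single i 1) c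

theorem chr_co (v : D.R → ℤ) (c : Lbl D) : chr v c = chr (S.P *ᵥ v) (S.co c) := by
  conv_lhs => rw [← S.P'_P v, ← Finset.univ_sum_single (S.P *ᵥ v), mulVec_sum, chr_sum]
  refine Finset.prod_congr rfl fun i _ => ?_
  rw [co, ← chr_zsmul, ← mulVec_smul, ← Pi.single_smul', smul_eq_mul, mul_one]

theorem chr_single' (i : Fin m) (a : ℤ) (y : Fin m → ℂˣ) : chr (Pi.single i a) y = y i ^ a := by
  rw [← chr_single i y, ← chr_zsmul, ← Pi.single_smul', smul_eq_mul, mul_one]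

theorem co_rel {v : D.W} {c c' : Lbl D} (h : Rel D v c c') (j : Fin m) :
    S.co c' (S.π v j) ^ (S.s v j : ℤ) = S.co c j := by
  rw [co.eq_1 S c, ← h, S.chr_co, S.P_Wm, S.P_P', spm_mulVec_single, mul_one, chr_single']

theorem co_cx (u : Fin m → ℤ) (x : ℂˣ) (j : Fin m) : S.co (cx D (u ᵥ* S.P) x) j = x ^ u j := by
  refine (chr_coch _ _ x).trans (congrArg _ ?_)
  show (S.P' *ᵥ Pi.single j 1) ⬝ᵥ (u ᵥ* S.P) = _
  rw [dotProduct_comm, ← dotProduct_mulVec, S.P_P', dotProduct_single, mul_one]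

theorem co_pow {c : Lbl D} {i : ℕ} (h : c ^ i = 1) (j : Fin m) : S.co c j ^ i = 1 := by rw [co, ← map_pow, h, map_one]

/-- `w₀ F` is `Q` on the first `n` coordinates and `-Q` on the last one if there is one more -/
structure Tor (w₀ : D.W) (Q : ℤ) (n : ℕ) : Prop where
  eq : S.P * (D.Wm w₀ * D.Mx) = Q • spm 1 (dd m n) * S.P
  three : 3 ∣ Q - 1
  rank : m = n ∨ (m = n + 1 ∧ ev)

variable {S} {w₀ : D.W} {Q : ℤ} {n r : ℕ}

theorem Tor.le (T : S.Tor w₀ Q n) : n ≤ m := by have := T.rank; omega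

theorem Tor.ne (T : S.Tor w₀ Q n) : Q ≠ 0 := by have := T.three; omega

theorem Tor.comm_iff (T : S.Tor w₀ Q n) {v v' : D.W} : D.Wm v' * (D.Wm w₀ * D.Mx) = D.Wm w₀ * D.Mx * D.Wm v ↔
    S.π v' = S.π v ∧ ∀ j, S.s v' j * dd m n j = dd m n (S.π v j) * S.s v j := by
  have h1 : S.P * (D.Wm v' * (D.Wm w₀ * D.Mx)) = Q • spm (S.π v') (fun j => S.s v' j * dd m n j) * S.P := by
    rw [← Matrix.mul_assoc, S.eq, Matrix.mul_assoc, T.eq, ← Matrix.mul_assoc, Matrix.mul_smul, spm_mul, mul_one]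
    rfl
  have h2 : S.P * (D.Wm w₀ * D.Mx * D.Wm v) = Q • spm (S.π v) (fun j => dd m n (S.π v j) * S.s v j) * S.P := by
    rw [← Matrix.mul_assoc, T.eq, Matrix.mul_assoc, S.eq, ← Matrix.mul_assoc, Matrix.smul_mul, spm_mul, one_mul]
  rw [← funext_iff, ← spm_inj]
  exact ⟨fun h => smul_right_injective _ T.ne (S.cancel_right (by rw [← h1, ← h2, h])),
    fun h => S.cancel_left (by rw [h1, h2, h])⟩

theorem Tor.mem_CW (T : S.Tor w₀ Q n) {v : D.W} : v ∈ CW D w₀ ↔ ∀ j : Fin m, (j : ℕ) < n → (S.π v j : ℕ) < n := by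
  rw [mem_CW_iff, T.comm_iff]
  refine ⟨fun h j hj => (dd_eq.1 (mul_right_cancel ((h.2 j).symm.trans (mul_comm _ _)))).2 hj, fun h => ⟨rfl, fun j => ?_⟩⟩
  rw [dd_eq.2 (lt_iff_of_lt T.le h j), mul_comm]

theorem Tor.co_fx (T : S.Tor w₀ Q n) {c : Lbl D} (h : Fx D w₀ c) (j : Fin m) :
    S.co c j ^ (Q * dd m n j) = S.co c j := by
  conv_rhs => rw [co, ← h, S.chr_co, mulVec_mulVec, T.eq, ← mulVec_mulVec, S.P_P', smul_mulVec, spm_mulVec_single, mul_one,
    chr_zsmul, chr_single', ← _root_.zpow_mul, mul_comm]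
  rfl

theorem Tor.co_ge (T : S.Tor w₀ Q n) {c : Lbl D} (h : Fx D w₀ c) {j : Fin m} {i : ℕ} (h3 : S.co c j ^ 3 ^ i = 1)
    (hj : ¬ (j : ℕ) < n) : S.co c j = 1 := by
  have h1 := T.co_fx h j
  rw [dd, if_neg hj] at h1
  refine eq_one_of_three h3 (n := Q * (-1 : ℤˣ) - 1) (by have := T.three; simp; omega) ?_
  rw [_root_.zpow_sub, h1, zpow_one, mul_inv_cancel]

theorem fix_ind {v : D.W} (h1 : ∀ j : Fin m, (S.π v j : ℕ) < r ↔ (j : ℕ) < r) (h2 : ∀ j : Fin m, (j : ℕ) < r → S.s v j = 1) :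
    ind m r ᵥ* S.P ᵥ* D.Wm v = ind m r ᵥ* S.P := by
  rw [S.vecMul_Wm]
  refine congrArg (· ᵥ* S.P) (funext fun j => ?_)
  by_cases hj : (j : ℕ) < r
  · simp [ind, h1, hj, h2 j hj]
  · simp [ind, h1, hj]

theorem U_lt (h : r ≤ m) {u : D.W} (hu : u ∈ S.U r) (j : Fin m) : (S.π u j : ℕ) < r ↔ (j : ℕ) < r :=
  lt_iff_of_lt h (fun j hj => by rwa [(hu j hj).1]) j

/-- the decomposition of an element which stabilises the block -/
theorem decomp (h : r ≤ m) {v : D.W} {g : Perm (Fin r)} (h1 : ∀ a, S.π v (Fin.castLE h a) = Fin.castLE h (g a))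
    (h2 : ∀ j : Fin m, (j : ℕ) < r → S.s v j = 1) : ∃ u ∈ S.U r, v = S.pw (ex h g) * 1 * u := by
  refine ⟨S.pw (ex h g⁻¹) * v, fun j hj => ?_, by simp⟩
  obtain ⟨a, rfl⟩ : ∃ a, j = Fin.castLE h a := ⟨⟨j, hj⟩, rfl⟩
  rw [S.π_mul, S.s_mul, S.π_pw, S.s_pw, h1, ex_lt, h2 _ hj, one_mul]
  simp

/-- **The block of the first `r` coordinates.** -/
noncomputable def Tor.blk (T : S.Tor w₀ Q n) (hr : r ≤ n) {xv : D.R → ℤ} (hx : xv = ind m r ᵥ* S.P) :
    Blk D w₀ (Fin r) xv where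
  j := S.pw.comp (ex (hr.trans T.le))
  j' := 1
  U := S.U r
  comm _ _ := Commute.one_right _
  commU g u hu := by
    refine S.ext (fun j => ?_) fun j => ?_
    · rw [S.π_mul, S.π_mul, MonoidHom.comp_apply, S.π_pw]
      by_cases hj : (j : ℕ) < r
      · rw [(hu j hj).1, (hu _ ((ex_lt_iff _ g j).2 hj)).1]
      · rw [ex_ge _ g hj, ex_ge _ g fun h => hj ((U_lt (hr.trans T.le) hu j).1 h)]
    · rw [S.s_mul, S.s_mul, MonoidHom.comp_apply, S.π_pw, S.s_pw, S.s_pw, one_mul, mul_one]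
      by_cases hj : (j : ℕ) < r
      · rw [(hu j hj).2, (hu _ ((ex_lt_iff _ g j).2 hj)).2]
      · rw [ex_ge _ g hj]
  commU' _ _ _ := Commute.one_left _
  fix g := hx ▸ fix_ind (fun j => by rw [MonoidHom.comp_apply, S.π_pw, ex_lt_iff]) fun j _ => S.s_pw _ j
  fix' g := by rw [MonoidHom.one_apply, D.Wm_one, vecMul_one]
  fixU u hu := hx ▸ fix_ind (U_lt (hr.trans T.le) hu) fun j hj => (hu j hj).2
  stab v hv := by
    rw [hx, S.vecMul_Wm, ← sub_vecMul] at hv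
    have h1 : ∀ j : Fin m, (j : ℕ) < r → (S.π v j : ℕ) < r ∧ S.s v j = 1 := fun j hj => by
      have h2 := S.dvd_of_vecMul hv j
      rw [Pi.sub_apply, ind, ind, if_pos hj] at h2
      by_cases h3 : (S.π v j : ℕ) < r
      · rw [if_pos h3] at h2
        rcases Int.units_eq_one_or (S.s v j) with h4 | h4
        · exact ⟨h3, h4⟩
        · rw [h4] at h2
          exact absurd h2 (by decide)
      · rw [if_neg h3, zero_mul] at h2
        exact absurd h2 (by decide)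
    obtain ⟨g, hg⟩ := exists_res (hr.trans T.le) fun j hj => (h1 j hj).1
    exact ⟨g, 1, decomp _ hg fun j hj => (h1 j hj).2⟩
  uniq g _ u hu h := by
    refine ⟨Equiv.ext fun a => Fin.castLE_injective (hr.trans T.le) ?_, rfl⟩
    have h1 := S.π_mul (S.pw (ex (hr.trans T.le) g) * 1) u (Fin.castLE (hr.trans T.le) a)
    rw [show S.pw (ex (hr.trans T.le) g) * 1 * u = 1 from h, map_one, mul_one, S.π_pw, (hu _ a.2).1, ex_lt] at h1
    exact h1.symm
  tau_d g := T.mem_CW.2 fun j hj => by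
    rw [MonoidHom.one_apply, mul_one, MonoidHom.comp_apply, S.π_pw]
    by_cases h : (j : ℕ) < r
    · exact ((ex_lt_iff _ g j).2 h).trans_le hr
    · rwa [ex_ge _ g h]
  tau_j _ := .inl rfl
  tau_U u hu j hj := by
    obtain ⟨h1, h2⟩ := T.comm_iff.1 (tau_eq_iff.1 (rfl : tau D w₀ u = _))
    have h3 := h2 j
    rw [(hu j hj).1, (hu j hj).2, mul_one] at h3
    exact ⟨h1 ▸ (hu j hj).1, mul_eq_right.1 h3⟩
  levi f := by
    have h := hr.trans T.le
    let l : Fin m → ℤ := fun j => if hj : (j : ℕ) < r then (f ⟨j, hj⟩ : ℕ) + 1 else 0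
    have l1 : ∀ a, l (Fin.castLE h a) = (f a : ℕ) + 1 := fun a => dif_pos a.2
    have l0 : ∀ j : Fin m, ¬ (j : ℕ) < r → l j = 0 := fun j hj => dif_neg hj
    refine ⟨S.P' *ᵥ l, Q, T.ne, S.P_inj ?_, fun v => ?_⟩
    · rw [mulVec_mulVec, T.eq, ← mulVec_mulVec, mulVec_smul, S.P_P', smul_mulVec]
      refine congrArg _ (funext fun j => (spm_mulVec 1 _ l j).trans ?_)
      by_cases hj : (j : ℕ) < r
      · rw [dd, if_pos (hj.trans_le hr), Units.val_one, one_mul]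
      · rw [l0 j hj, mul_zero]
    have h1 : v ∈ Wl D (S.P' *ᵥ l) ↔ ∀ j, l (S.π v j) = S.s v j * l j := by
      refine ⟨fun hv j => ?_, fun hv => S.P_inj (funext fun j => ?_)⟩
      · have h2 := congrFun (congrArg (S.P *ᵥ ·) (show D.Wm v *ᵥ (S.P' *ᵥ l) = _ from hv)) (S.π v j)
        rwa [S.P_Wm, S.P_P', spm_mulVec, eq_comm] at h2
      · obtain ⟨j, rfl⟩ := (S.π v).surjective j
        rw [S.P_Wm, S.P_P', spm_mulVec, hv]
    rw [h1]
    constructor
    · intro hv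
      have h2 : ∀ a, (S.π v (Fin.castLE h a) : ℕ) < r ∧ S.s v (Fin.castLE h a) = 1 := fun a => by
        have h3 := hv (Fin.castLE h a)
        rw [l1] at h3
        rcases seg_cases h (S.π v (Fin.castLE h a)) with ⟨b, hb⟩ | hb
        · rw [hb, l1] at h3
          refine ⟨hb ▸ b.2, (Int.units_eq_one_or _).resolve_right fun h4 => ?_⟩
          rw [h4, Units.val_neg, Units.val_one] at h3
          omega
        · rw [l0 _ hb] at h3
          exact absurd h3.symm (mul_ne_zero (Units.ne_zero _) (by omega))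
      obtain ⟨g, hg⟩ := exists_res h (π := S.π v) fun j hj => (h2 ⟨j, hj⟩).1
      refine ⟨g, fun a => Fin.ext ?_, 1, one_mem _, decomp _ hg fun j hj => (h2 ⟨j, hj⟩).2⟩
      have h3 := hv (Fin.castLE h a)
      rw [hg, l1, l1, (h2 a).2, Units.val_one] at h3
      omega
    · rintro ⟨g, hg, g', -, u, hu, rfl⟩ j
      rw [MonoidHom.one_apply, mul_one, MonoidHom.comp_apply, S.π_mul, S.s_mul, S.π_pw, S.s_pw, one_mul]
      rcases seg_cases h j with ⟨a, rfl⟩ | hj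
      · rw [(hu _ a.2).1, (hu _ a.2).2, ex_lt, l1, l1, hg a, Units.val_one, one_mul]
      · have h3 := fun h4 => hj ((U_lt h hu j).1 h4)
        rw [ex_ge _ g h3, l0 _ h3, l0 _ hj, mul_zero]
  fus x v c' hx1 hi hc hv := by
    obtain ⟨i, hi⟩ := hi
    rcases T.rank with h | ⟨h, -⟩
    · exact ⟨v, T.mem_CW.2 fun j _ => h ▸ (S.π v j).2, hv⟩
    let z : Fin m := ⟨n, by omega⟩
    obtain ⟨y, hy⟩ := (S.π v).surjective z
    have h1 : ¬ (y : ℕ) < r := fun h1 => hx1 (by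
      have h2 := S.co_rel hv y
      rw [hy, hx, S.co_cx, ind, if_pos h1, zpow_one] at h2
      have h3 : S.co c' z = x ^ (S.s v y : ℤ) := by
        rw [← h2, ← _root_.zpow_mul, ← Units.val_mul, Int.units_mul_self, Units.val_one, zpow_one]
      rw [← h2, T.co_ge hc (i := i) (by rw [h3, ← zpow_natCast, ← _root_.zpow_mul, mul_comm, _root_.zpow_mul, zpow_natCast, hi,
        _root_.one_zpow]) (lt_irrefl n), _root_.one_zpow])
    have h2 : ¬ (z : ℕ) < r := not_lt.2 hr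
    refine ⟨v * S.pw (swap y z), T.mem_CW.2 fun j hj => by_contra fun h3 => ?_, (rel_cx (hx ▸ fix_ind (fun j => ?_)
      fun j _ => S.s_pw _ j) x).trans hv⟩
    · have h4 : S.π (v * S.pw (swap y z)) j = S.π (v * S.pw (swap y z)) z := by
        rw [S.π_mul v _ z, S.π_pw, swap_apply_right, hy]
        exact Fin.ext (by have := (S.π (v * S.pw (swap y z)) j).2; show _ = n; omega)
      rw [(S.π _).injective h4] at hj
      exact lt_irrefl n hj
    · rw [S.π_pw, swap_apply_def]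
      split_ifs with h3 h4
      · rw [h3]; exact iff_of_false h2 h1
      · rw [h4]; exact iff_of_false h1 h2
      · rfl
  neg := by
    have h := hr.trans T.le
    by_cases h0 : ∃ v, S.π v = 1 ∧ ∀ j : Fin m, (j : ℕ) < r → S.s v j = -1
    · obtain ⟨v, h1, h2⟩ := h0
      refine .inr ⟨v, T.mem_CW.2 fun j hj => by rwa [h1], ?_, fun u hu j hj => ?_, fun g => .inl (S.ext (fun j => ?_) fun j => ?_)⟩
      · rw [hx, S.vecMul_Wm, ← neg_vecMul, h1]
        refine congrArg (· ᵥ* S.P) (funext fun j => ?_)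
        by_cases hj : (j : ℕ) < r
        · simp [ind, hj, h2 j hj]
        · simp [ind, hj]
      · have h3 := S.s_mul (v * u * v⁻¹) v j
        rw [inv_mul_cancel_right, S.s_mul, h1, (hu j hj).1, (hu j hj).2, mul_one] at h3
        exact ⟨by simpa [h1] using (hu j hj).1, right_eq_mul.1 h3⟩
      · rw [S.π_mul, S.π_mul, h1]
        rfl
      · rw [S.s_mul, S.s_mul, MonoidHom.comp_apply, S.π_pw, S.s_pw, S.s_pw, one_mul, mul_one]
        by_cases hj : (j : ℕ) < r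
        · rw [h2 j hj, h2 _ ((ex_lt_iff _ g j).2 hj)]
        · rw [ex_ge _ g hj]
    · refine .inl fun v hv => h0 ?_
      obtain ⟨u, h1, h2⟩ := S.exists_w 1 fun he => S.even he v
      refine ⟨u, h1, fun j hj => h2 ▸ (Int.units_eq_one_or _).resolve_left fun h3 => ?_⟩
      rw [hx, S.vecMul_Wm, ← add_vecMul] at hv
      have h4 := S.dvd_of_vecMul hv j
      rw [Pi.add_apply, h3, ind, ind, if_pos hj] at h4
      split_ifs at h4 <;> exact absurd h4 (by decide)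

/-- the first `n` coordinates -/
def Tor.L (T : S.Tor w₀ Q n) : Matrix (Fin n) D.R ℤ := S.P.submatrix (Fin.castLE T.le) id

theorem Tor.ind_L (T : S.Tor w₀ Q n) (hr : r ≤ n) : ind n r ᵥ* T.L = ind m r ᵥ* S.P := funext fun i =>
  sum_seg T.le (f := fun j => ind m r j * S.P j i) fun j hj => by rw [ind, if_neg fun h => hj (h.trans_le hr), zero_mul]

/-- **`BLike`** -/
noncomputable def Tor.blike (T : S.Tor w₀ Q n) {Adm : Matrix D.R D.R ℤ → Prop} {a : ℕ} (hn : 1 ≤ n) (ha : 1 ≤ a)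
    (h1 : (3 : ℤ) ^ a ∣ Q - 1) (h2 : ¬ (3 : ℤ) ^ (a + 1) ∣ Q - 1) (h4 : n = 4 → ev → m = 5)
    (adm : ∀ A, Adm A → (∃ (v : D.W) (s : ℤ), ¬ 3 ∣ s ∧ D.Wm v * A = s • (1 : Matrix D.R D.R ℤ)) ∨
      ((n ≠ 1 ∧ n ≠ 4 ∧ n ≠ 5) ∧ (∃ s : ℤ, ¬ 3 ∣ s ∧ A * A = s • (1 : Matrix D.R D.R ℤ)) ∧
        (∀ w, ∃ w', D.Wm w * A = A * D.Wm w') ∧
        ∀ (v : D.W) (s : ℤ), ¬ ∀ i, (3 : ℤ) ∣ ((ind m n ᵥ* S.P) ᵥ* (A * D.Wm v) - s • (ind m n ᵥ* S.P)) i)) :
    BLike D Adm w₀ n a where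
  n_pos := hn
  a_pos := ha
  L := T.L
  Q := Q
  hQ := h1
  L_surj z := ⟨S.P' *ᵥ fun j => if hj : (j : ℕ) < n then z ⟨j, hj⟩ else 0, funext fun a =>
    (congrFun (S.P_P' _) (Fin.castLE T.le a)).trans (dif_pos a.2)⟩
  L_Θ := by
    ext a i
    refine (congrFun (congrFun T.eq (Fin.castLE T.le a)) i).trans ?_
    rw [Matrix.smul_mul, Matrix.smul_apply, Matrix.smul_apply]
    refine congrArg _ ((spm_mul_apply 1 _ _ _ i).trans ?_)
    rw [dd, if_pos a.2, Units.val_one, one_mul]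
    rfl
  lab_surj c hc hi := by
    obtain ⟨i, hi⟩ := hi
    refine ⟨fun b => S.co c (Fin.castLE T.le b), funext fun b => pow_eq_one_of_three (S.co_pow hi _) h2 ?_,
      funext fun j => ?_⟩
    · have h := T.co_fx hc (Fin.castLE T.le b)
      rw [dd, if_pos (show (Fin.castLE T.le b : ℕ) < n from b.2), Units.val_one, mul_one] at h
      beta_reduce
      rw [_root_.zpow_sub, h, zpow_one, mul_inv_cancel]
    · rw [← chr_single j c, S.chr_co, mulVec_single_one]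
      exact (Fintype.prod_of_injective _ (Fin.castLE_injective T.le) _ _ (fun b hb => by
        rw [T.co_ge hc (S.co_pow hi b) fun h => hb ⟨⟨b, h⟩, rfl⟩, _root_.one_zpow]) fun _ => rfl).symm
  act v hv := by
    obtain ⟨g, hg⟩ := exists_res T.le (T.mem_CW.1 hv)
    refine ⟨g, fun b => S.s v (Fin.castLE T.le b), ?_⟩
    ext b i
    obtain ⟨b, rfl⟩ := g.surjective b
    refine (congrFun (congrFun (S.eq v) (Fin.castLE T.le (g b))) i).trans ?_
    rw [← hg, spm_mul_apply]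
    exact (spm_mul_apply g (fun b => S.s v (Fin.castLE T.le b)) T.L b i).symm
  inj v hv h := by
    have h3 : ∀ j : Fin m, (j : ℕ) < n → S.π v j = j ∧ S.s v j = 1 := fun j hj => by
      have h5 := T.mem_CW.1 hv j hj
      have h6 : (S.P * D.Wm v * S.P') (S.π v j) j = (S.P * S.P') (S.π v j) j :=
        congrFun (congrFun (congrArg (· * S.P') h) ⟨_, h5⟩) j
      rw [S.eq, Matrix.mul_assoc, S.PP', Matrix.mul_one, spm_apply, if_pos rfl, Matrix.one_apply] at h6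
      split_ifs at h6 with h7
      · exact ⟨h7, Units.ext h6⟩
      · exact absurd h6 (Units.ne_zero _)
    have h5 : ∀ j, S.π v j = j := fun j => by
      by_cases hj : (j : ℕ) < n
      · exact (h3 j hj).1
      · have h6 : ¬ (S.π v j : ℕ) < n := fun h => hj ((lt_iff_of_lt T.le (T.mem_CW.1 hv) j).1 h)
        exact Fin.ext (by have := T.rank; have := j.2; have := (S.π v j).2; omega)
    refine S.ext (fun j => by rw [h5, map_one]; rfl) fun j => ?_
    rw [S.s_one]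
    by_cases hj : (j : ℕ) < n
    · exact (h3 j hj).2
    · rcases T.rank with h6 | ⟨h6, h7⟩
      · exact absurd (h6 ▸ j.2) hj
      · rw [← S.even h7 v, Finset.prod_eq_single j (fun b _ hb => (h3 b (by_contra fun h8 => hb (Fin.ext ?_))).2) (by simp)]
        have := j.2
        have := b.2
        omega
  bk := T.blk le_rfl (T.ind_L le_rfl)
  b3 h := T.blk (by omega) (T.ind_L (by omega))
  refl h := by
    have hm := T.le
    by_cases he : ev
    · have h5 := h4 h he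
      refine ⟨S.pw (swap ⟨3, by omega⟩ ⟨4, by omega⟩), fun j hj => ⟨?_, S.s_pw _ j⟩, ?_⟩
      · rw [S.π_pw, swap_apply_of_ne_of_ne] <;> exact Fin.ne_of_val_ne (by simp; omega)
      · simp [S.det_Wm, S.π_pw, S.s_pw]
    · obtain ⟨u, h5, h6⟩ := S.exists_w 1 (s := Pi.mulSingle ⟨3, by omega⟩ (-1)) fun h => absurd h he
      refine ⟨u, fun j hj => ⟨by rw [h5]; rfl, ?_⟩, ?_⟩
      · rw [h6, Pi.mulSingle_eq_of_ne (Fin.ne_of_val_ne hj.ne)]
      · rw [S.det_Wm, h5, h6, ← Units.coe_prod, Fintype.prod_pi_mulSingle']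
        simp
  adm := T.ind_L le_rfl ▸ adm

end SP

end Cfsg.Agent.KZ.ClB
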