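import Cfsg.Agent.KZ.ClB.SP
import Cfsg.Agent.KZ.Lie.McSc
import Cfsg.Agent.KZ.Lie.Desc
import Cfsg.Agent.KZ.Ch3X.Gen
import Cfsg.Agent.KZ.Dat.AuOf

/-!
# KZ, types `B` and `C` : the common part (helper66)

`BoxB` : the statement of `BLike.rowAt`; `SP.rowAt` : all signed permutations, `Mx = p ^ e`; `cop_of_sq`, `oc3_of_elt`.
-/

set_option autoImplicit false
set_option linter.unusedSectionVars false

namespace Cfsg.Agent.KZ.ClB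

open Cfsg Cfsg.Agent.DL Cfsg.Agent.DL.PP Cfsg.Agent.KZ.Lie Cfsg.Agent.KZ.Dat Cfsg.Agent.KZ.Cl Cfsg.Agent.KZ.Ch3X Matrix

/-- the common theorem for the B-like groups -/
def BoxB : Prop :=
  ∀ {p : ℕ} [Fact p.Prime] {k : Type} [Field k] [CharP k p] {Y : Type} [Group Y] {N : Type} [Fintype N]
    [DecidableEq N] {ρ : Y →* GL N k} {F : MulAut Y} {G : Subgroup Y} [IsAlgClosed k] {D : Datum p ρ F G}
    {Adm : Matrix D.R D.R ℤ → Prop} {w₀ : D.W} {n a : ℕ} (_ : BLike D Adm w₀ n a) (f : Fr D) [Fintype ↥(GF F G)],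
    Api f → Mc f w₀ → p ≠ 3 → ∀ {S : Type} [Group S] (s : Sit D Adm S), s.Cop → AdmC D Adm w₀ → RegC D w₀ → OC3 S →
    ¬ IsMulCommutative S → RowAt S

theorem rowAt_congr {S T : Type} [Group S] [Group T] [Finite S] (e : S ≃* T) (h : RowAt T) : RowAt S where
  up M hM A _ _ N h1 h2 := h.up M hM A N h1 (h2.map fun i => i.trans e)
  lo M hM A _ _ N h1 h2 := h.lo M hM A N h1 (h2.map fun i => i.trans e)
  one M hM := Res.one_congr hM e (h.one M hM)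

theorem not_comm_congr {S T : Type} [Group S] [Group T] (e : S ≃* T) (h : ¬ IsMulCommutative S) :
    ¬ IsMulCommutative T := fun h1 => h ⟨⟨fun a b => e.injective (by rw [map_mul, map_mul, h1.is_comm.comm])⟩⟩

theorem not_three_of_sq {H : Type*} [Group H] [Finite H] (h : ∀ x : H, x ^ 2 = 1) : ¬ 3 ∣ Nat.card H := fun h3 => by
  have : Fact (Nat.Prime 3) := ⟨Nat.prime_three⟩
  obtain ⟨x, hx⟩ := exists_prime_orderOf_dvd_card' 3 h3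
  exact absurd (hx ▸ orderOf_dvd_of_pow_eq_one (h x)) (by decide)

/-- a cyclic subgroup of index prime to `3` -/
theorem oc3_of_elt {S : Type*} [Group S] [Finite S] (x : Out S) (h : ¬ 3 ∣ (Subgroup.zpowers x).index) : OC3 S := by
  intro X hX
  have : Fact (Nat.Prime 3) := ⟨Nat.prime_three⟩
  have : Finite (MulAut S) := Finite.of_injective (fun α : MulAut S => (α : S → S)) DFunLike.coe_injective
  obtain ⟨Q⟩ : Nonempty (Sylow 3 ↥(Subgroup.zpowers x)) := inferInstance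
  have h1 : ¬ 3 ∣ ((Q : Subgroup ↥(Subgroup.zpowers x)).map (Subgroup.zpowers x).subtype).index := by
    rw [Subgroup.index_map_subtype, Nat.prime_three.dvd_mul]
    exact fun h2 => h2.elim Q.not_dvd_index h
  obtain ⟨R, hR⟩ := hX.exists_le_sylow
  have h2 : IsCyclic ↥((Q.isPGroup'.map _).toSylow h1 : Subgroup (Out S)) :=
    Subgroup.isCyclic_of_le (H' := Subgroup.zpowers x) (Subgroup.map_subtype_le _)
  have h3 : IsCyclic ↥(R : Subgroup (Out S)) := isCyclic_of_surjective _ (Sylow.equiv ((Q.isPGroup'.map _).toSylow h1) R).surjective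
  exact Subgroup.isCyclic_of_le hR

theorem oc3_of_card {S : Type*} [Group S] [Finite S] (x : Out S) {c f : ℕ} (hf : 0 < f) (hc : ¬ 3 ∣ c)
    (h : Nat.card (Out S) = c * f) (hx : f ∣ orderOf x) : OC3 S := by
  refine oc3_of_elt x fun h3 => hc (h3.trans ?_)
  obtain ⟨d, hd⟩ := hx
  have h1 := (Subgroup.zpowers x).card_mul_index
  rw [Nat.card_zpowers, h, hd, mul_assoc, mul_comm c] at h1
  exact Dvd.intro_left d (Nat.eq_of_mul_eq_mul_left hf h1)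

theorem exists_val {Q : ℤ} (h : 3 ∣ Q - 1) (h1 : Q ≠ 1) :
    ∃ a : ℕ, 1 ≤ a ∧ (3 : ℤ) ^ a ∣ Q - 1 ∧ ¬ (3 : ℤ) ^ (a + 1) ∣ Q - 1 := by
  have : Fact (Nat.Prime 3) := ⟨Nat.prime_three⟩
  have h2 : ∀ j : ℕ, (3 : ℤ) ^ j ∣ Q - 1 ↔ j ≤ padicValInt 3 (Q - 1) := fun j =>
    (padicValInt_dvd_iff (p := 3) j _).trans (or_iff_right (sub_ne_zero.2 h1))
  exact ⟨_, (h2 1).1 (by rwa [pow_one]), (h2 _).2 le_rfl, fun h3 => absurd ((h2 _).1 h3) (by omega)⟩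

theorem not_three_pow {p : ℕ} (hp : p.Prime) (h : p ≠ 3) (j : ℕ) : ¬ (3 : ℤ) ∣ (p : ℤ) ^ j := fun h1 =>
  h ((Nat.prime_dvd_prime_iff_eq Nat.prime_three hp).1
    (Int.natCast_dvd_natCast.1 (Int.prime_three.dvd_of_dvd_pow h1))).symm

theorem ne_three {p e : ℕ} (he : 0 < e) {q : ℕ} (hq : q = p ^ e) (h : ¬ 3 ∣ q) : p ≠ 3 := by
  rintro rfl
  exact h (hq ▸ dvd_pow_self 3 he.ne')

variable {p : ℕ} [Fact p.Prime] {k : Type} [Field k] [CharP k p] {Y : Type} [Group Y] {N : Type} [Fintype N]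
  [DecidableEq N] {ρ : Y →* GL N k} {F : MulAut Y} {G : Subgroup Y} [IsAlgClosed k] {D : Datum p ρ F G}
  {Adm : Matrix D.R D.R ℤ → Prop} {S : Type} [Group S]

theorem cop_of_sq [Fintype ↥(GF F G)] (s : Sit D Adm S) (h1 : ∀ g ∈ GF F G, g ^ 2 ∈ s.H0)
    (h2 : ∀ z, s.π z = 1 → z ^ 2 = 1) : s.Cop := by
  have := s.normal
  have := s.finiteH
  refine ⟨not_three_of_sq fun x => ?_, not_three_of_sq fun z => Subtype.ext (h2 z z.2)⟩
  induction x using QuotientGroup.induction_on with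
  | H g => exact (QuotientGroup.eq_one_iff (g ^ 2)).2 (h1 g g.2)

theorem adm_of_admQ (hp : p ≠ 3) {A : Matrix D.R D.R ℤ} (h : AdmQ p A) :
    ∃ (v : D.W) (s : ℤ), ¬ 3 ∣ s ∧ D.Wm v * A = s • (1 : Matrix D.R D.R ℤ) :=
  let ⟨j, hj⟩ := h
  ⟨1, _, not_three_pow Fact.out hp j, by rw [D.Wm_one, one_mul, hj]⟩

theorem admC_of_sc {w₀ : D.W} {Q : ℤ} (h : Sc D w₀ Q) : AdmC D Adm w₀ := fun _ A _ _ =>
  ⟨1, by rw [h.eq, mul_smul_comm, smul_mul_assoc, mul_one, one_mul]⟩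

theorem SP.tor_of_sc {m : ℕ} {ev : Prop} (P : SP D m ev) {w₀ : D.W} {Q : ℤ} (h : Sc D w₀ Q) : P.Tor w₀ Q m :=
  ⟨by rw [h.eq, dd_self, Matrix.mul_smul, Matrix.smul_mul, Matrix.mul_one, Matrix.one_mul], h.dvd, .inl rfl⟩

theorem exists_sc (hp : p ≠ 3) {e : ℕ} (he : 0 < e) (hM : D.Mx = (p : ℤ) ^ e • (1 : Matrix D.R D.R ℤ)) {z : D.W}
    (hz : D.Wm z = -1) : ∃ w₀ Q, Sc D w₀ Q ∧ Q ≠ 1 := by
  have h1 := not_three_pow Fact.out hp e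
  have h2 : (1 : ℤ) < (p : ℤ) ^ e := one_lt_pow₀ (by exact_mod_cast (Fact.out : p.Prime).one_lt) he.ne'
  by_cases h : (3 : ℤ) ∣ (p : ℤ) ^ e - 1
  · exact ⟨1, _, ⟨by rw [D.Wm_one, one_mul, hM], h⟩, h2.ne'⟩
  · exact ⟨z, -(p : ℤ) ^ e, ⟨by rw [hz, hM, neg_mul, one_mul, neg_smul], by omega⟩, by omega⟩

/-- **Types `B` and `C`.** -/
theorem SP.rowAt (hB : BoxB) (hA : BoxApi) {m : ℕ} (P : SP D m False) (hm : 1 ≤ m) (hp : p ≠ 3) {e : ℕ} (he : 0 < e)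
    (hM : D.Mx = (p : ℤ) ^ e • (1 : Matrix D.R D.R ℤ)) (s : Sit D Adm S) (h1 : ∀ g ∈ GF F G, g ^ 2 ∈ s.H0)
    (h2 : ∀ z, s.π z = 1 → z ^ 2 = 1)
    (adm : ∀ A, Adm A → (∃ (v : D.W) (s : ℤ), ¬ 3 ∣ s ∧ D.Wm v * A = s • (1 : Matrix D.R D.R ℤ)) ∨
      ((m ≠ 1 ∧ m ≠ 4 ∧ m ≠ 5) ∧ (∃ s : ℤ, ¬ 3 ∣ s ∧ A * A = s • (1 : Matrix D.R D.R ℤ)) ∧
        (∀ w, ∃ w', D.Wm w * A = A * D.Wm w') ∧
        ∀ (v : D.W) (s : ℤ), ¬ ∀ i, (3 : ℤ) ∣ ((ind m m ᵥ* P.P) ᵥ* (A * D.Wm v) - s • (ind m m ᵥ* P.P)) i))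
    (ho : OC3 S) (hS : ¬ IsMulCommutative S) : RowAt S := by
  have := Asm.finite_GF D
  have := Fintype.ofFinite ↥(GF F G)
  obtain ⟨f⟩ := nonempty_fr D
  obtain ⟨z, hz⟩ := P.bwd 1 (-1) False.elim
  have hz' : D.Wm z = -1 := P.cancel_left (by
    rw [hz, ← neg_spm, spm_one, Matrix.mul_neg, Matrix.mul_one]
    exact (Matrix.neg_mul 1 P.P).trans (congrArg _ (Matrix.one_mul _)))
  obtain ⟨w₀, Q, h, hQ⟩ := exists_sc hp he hM hz'
  obtain ⟨a, h3, h4, h5⟩ := exists_val h.dvd hQ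
  exact hB ((P.tor_of_sc h).blike hm h3 h4 h5 (fun _ => False.elim) adm) f (hA f s.qs) (h.mc f hp) hp s (cop_of_sq s h1 h2)
    (admC_of_sc h) h.regC ho hS

end Cfsg.Agent.KZ.ClB
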