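import Cfsg.Agent.KZ.ClB.Sp
import Cfsg.Agent.KZ.Dat.OmD
import Cfsg.Agent.KZ.Cl.Main
import Cfsg.Agent.S2604

/-!
# KZ, the orthogonal groups in odd dimension; the box `BoxB` (helper66)
-/

set_option autoImplicit false
set_option linter.unusedSectionVars false

namespace Cfsg.Agent.KZ.ClB

open Cfsg Cfsg.Agent.DL Cfsg.Agent.DL.PP Cfsg.Agent.KZ.Lie Cfsg.Agent.KZ.Dat Cfsg.Agent.KZ.Cl Cfsg.Agent.KZ.Ch3X Matrix

variable {F : Type} [Field F] [Fintype F] {m : ℕ}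

theorem oc3_odd (hm : 3 ≤ m) (ho : Odd (Fintype.card F)) [Finite (POmega F (quadFormOdd m F))] :
    OC3 (POmega F (quadFormOdd m F)) := by
  obtain ⟨p, hp⟩ := CharP.exists F
  obtain ⟨⟨e, he⟩, hp', hF⟩ := FiniteField.card F p
  have : Fact p.Prime := ⟨hp'⟩
  have h2 : p ≠ 2 := by
    rintro rfl
    exact (Nat.not_odd_iff_even.2 (hF ▸ (Nat.even_pow.2 ⟨even_two, he.ne'⟩))) ho
  obtain ⟨i⟩ := S2604.result (F := F) he hF h2 hm
  refine oc3_of_card (i.symm (Multiplicative.ofAdd (0, 1))) he (c := 2) (by decide) ?_ ?_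
  · rw [Nat.card_congr i.toEquiv, Nat.card_congr Multiplicative.toAdd, Nat.card_prod, Nat.card_zmod, Nat.card_zmod]
  · rw [MulEquiv.orderOf_eq, orderOf_ofAdd_eq_addOrderOf, Prod.addOrderOf_mk, ZMod.addOrderOf_one]
    exact Nat.dvd_lcm_right _ _

theorem boxB : BoxB := fun B f _ hA hC hp _ _ s hcop hAd hR ho hS => B.rowAt f hA hC hp s hcop hAd hR ho hS

/-- **`Box.psp`** -/
theorem row_psp' (hA : BoxApi) : Row PspX := row_psp boxB hA

theorem rowAt_datB {p : ℕ} [Fact p.Prime] {k : Type} [Field k] [CharP k p] [IsAlgClosed k] (h2 : (2 : k) ≠ 0)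
    (hk : ∀ a : k, ∃ j, 0 < j ∧ a ^ p ^ j = a) {e : ℕ} (he : 0 < e) (hA : BoxApi) (hm : 1 ≤ m) (hp : p ≠ 3) {S : Type}
    [Group S] (s : Sit (Om.datB m h2 hk he) (AdmQ p) S)
    (h1 : ∀ g ∈ GF ((Om.osB m).sy_id.F k p e) ((Om.osB m).G k), g ^ 2 ∈ s.H0) (h3 : ∀ z, s.π z = 1 → z ^ 2 = 1)
    (ho : OC3 S) (hS : ¬ IsMulCommutative S) : RowAt S :=
  (SP.ofEq (D := Om.datB m h2 hk he) (Equiv.refl _)
    (fun w => (Om.WmB_spm h2 hk he w).imp fun π h => h.imp fun s h i j => congrFun (congrFun h i) j)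
    fun π s => (Om.exists_WmB h2 hk he π s).imp fun w h i j => congrFun (congrFun h i) j).rowAt boxB hA hm hp he
    (Om.datB_Mx h2 hk he) s h1 h3 (fun A h => .inl (adm_of_admQ hp h)) ho hS

end Cfsg.Agent.KZ.ClB
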