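import Cfsg.Agent.KZ.ClB.Om
import Cfsg.Agent.KZ.Dat.OmS

/-!
# KZ, the row of the orthogonal groups in odd dimension (helper66)
-/

set_option autoImplicit false

namespace Cfsg.Agent.KZ.ClB

open Cfsg Cfsg.Agent.DL Cfsg.Agent.DL.PP Cfsg.Agent.KZ.Lie Cfsg.Agent.KZ.Dat Cfsg.Agent.KZ.Cl Cfsg.Agent.KZ.Ch3X

/-- **`Box.odd`** -/
theorem row_odd (hA : BoxApi) : Row OddX := row_of Tool.toolOne fun S _ _ h1 h2 _ h => by
  obtain ⟨F, _, _, m, h3, hm, ho, ⟨i⟩⟩ := h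
  have := Finite.of_equiv _ i.toEquiv
  obtain ⟨p, hp⟩ := CharP.exists F
  have : Fact p.Prime := ⟨CharP.char_is_prime F p⟩
  obtain ⟨k, _, _, _, hk, e, he, f, hF⟩ := hasC p F
  obtain ⟨s, h4, h5⟩ := Om.sitB f hF hk he (Om.two_ne hF ho he) ho hm
  exact rowAt_congr i (rowAt_datB _ hk he hA (by omega) (ne_three he hF h3) s h4 h5 (oc3_odd hm ho) (not_comm_congr i h2))

end Cfsg.Agent.KZ.ClB
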